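import Cfsg.Agent.SelfCentralCyclic.Basic

/-!
# The two cases: `C(U^p) = U`, or `C(U^p)` has index `p` over `U`
-/

set_option autoImplicit false
set_option linter.unusedSectionVars false

namespace CfsgLib.SelfCentralCyclic

open CfsgLib.Classification.CyclicNormal (conj_pow_zpow mul_pow_of_comm dvd_sub_one_of_odd
  dvd_sub_one_of_two)
open scoped commutatorElement

variable {G : Type*} [Group G] [Finite G] {p n : ℕ} [hp : Fact p.Prime] {a : G} {r : G → ℤ}

/-- The conclusion of the maximal class type. -/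
def MaxClassType (p n : ℕ) (G : Type*) [Group G] : Prop :=
  p = 2 ∧ Nat.card G = 2 ^ (n + 1) ∧ ((∃ m : ℕ, Nonempty (G ≃* DihedralGroup m)) ∨
    (∃ m : ℕ, Nonempty (G ≃* QuaternionGroup m)) ∨ Cfsg.IsQuasiDihedral G)

/-- `C(U^p) = U`: maximal class type. -/
theorem maxClass_of_self (D : Data p n a r)
    (hU : ∀ g, (p : ℤ) ^ (n - 1) ∣ r g - 1 → g ∈ Subgroup.zpowers a) : MaxClassType p n G := by
  have hn2 := D.two_le
  have hp2 : p = 2 := by
    by_contra hne
    obtain ⟨g, hg⟩ := D.nonab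
    obtain ⟨j, hj1, hj2⟩ := D.exists_minimal hg
    exact hj1 (hU _ (dvd_sub_one_of_odd hp.out (hp.out.odd_of_ne_two hne) (by omega)
      (D.dvd_pow_of_mem hj2)))
  subst hp2
  have hodd : ∀ g : G, r g % 2 = 1 := fun g => by
    have := D.dvd_prime' g
    push_cast at this
    omega
  have hn3 : 3 ≤ n := by
    by_contra hlt
    obtain ⟨g, hg⟩ := D.nonab
    apply hg (hU g ?_)
    rw [show n - 1 = 1 by omega, pow_one]
    exact D.dvd_prime' g
  have hsq : ∀ g : G, g ^ 2 ∈ Subgroup.zpowers a → (4 : ℤ) ∣ r g - 1 → g ∈ Subgroup.zpowers a :=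
    fun g hg2 hg4 => hU g (by
      push_cast; exact dvd_sub_one_of_two hn2 hg4 (by simpa using D.dvd_pow_of_mem hg2))
  have h4n : (4 : ℤ) ∣ ((2 : ℕ) : ℤ) ^ n := by
    obtain ⟨m, rfl⟩ : ∃ m, n = m + 2 := ⟨n - 2, by omega⟩
    exact ⟨2 ^ m, by push_cast; ring⟩
  have hrpow : ∀ g : G, ∀ m : ℕ, (4 : ℤ) ∣ r (g ^ m) - r g ^ m := fun g m => by
    refine h4n.trans ((D.zpow_eq _ _).mp ?_)
    rw [← D.conj, conj_pow_zpow (D.conj g) m]
  have hsq4 : ∀ x : ℤ, x % 2 = 1 → (4 : ℤ) ∣ x ^ 2 - 1 := fun x hx => by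
    obtain ⟨t, rfl⟩ : ∃ t, x = 2 * t + 1 := ⟨x / 2, by omega⟩
    exact ⟨t ^ 2 + t, by ring⟩
  have hallsq : ∀ g : G, g ^ 2 ∈ Subgroup.zpowers a := by
    intro g
    by_contra hg
    obtain ⟨j, hj1, hj2⟩ := D.exists_minimal hg
    refine hj1 (hsq _ hj2 ?_)
    rw [← pow_mul, mul_comm, pow_mul]
    have := dvd_add (hrpow (g ^ 2 ^ j) 2) (hsq4 _ (hodd (g ^ 2 ^ j)))
    simpa using this
  have h3 : ∀ g, g ∉ Subgroup.zpowers a → r g % 4 = 3 := by
    intro g hg
    by_contra h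
    apply hg (hsq g (hallsq g) ?_)
    have := hodd g
    omega
  obtain ⟨u, hu⟩ := D.nonab
  have hcoset : ∀ g, g ∉ Subgroup.zpowers a → u⁻¹ * g ∈ Subgroup.zpowers a := by
    intro g hg
    refine hsq _ (hallsq _) ?_
    have e : (4 : ℤ) ∣ r (u⁻¹ * g) * r u - r g := by
      refine h4n.trans ((D.zpow_eq _ _).mp ?_)
      rw [mul_comm, ← D.conj_zpow', ← D.conj, ← D.conj]
      group
    obtain ⟨t, ht⟩ := e
    obtain ⟨w, hw⟩ : ∃ w, r u = 4 * w + 3 := ⟨r u / 4, by have := h3 u hu; omega⟩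
    obtain ⟨w', hw'⟩ : ∃ w, r g = 4 * w + 3 := ⟨r g / 4, by have := h3 g hg; omega⟩
    rw [hw, hw'] at ht
    exact ⟨r (u⁻¹ * g) * (w + 1) - w' - t - 1, by linear_combination (-1 : ℤ) * ht⟩
  have hidx : (Subgroup.zpowers a).index = 2 := by
    rw [Subgroup.index_eq_two_iff]
    refine ⟨u, fun b => ?_⟩
    by_cases hb : b ∈ Subgroup.zpowers a
    · exact Or.inr ⟨hb, fun h => hu (by simpa using mul_mem (inv_mem hb) h)⟩
    · refine Or.inl ⟨?_, hb⟩
      have h1 := mul_mem (hallsq u) (hcoset b⁻¹ fun h => hb (by simpa using inv_mem h))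
      have h2 : u * b⁻¹ ∈ Subgroup.zpowers a := by
        rwa [show u ^ 2 * (u⁻¹ * b⁻¹) = u * b⁻¹ by rw [sq]; group] at h1
      have := mul_mem (inv_mem h2) (hallsq u)
      rwa [show (u * b⁻¹)⁻¹ * u ^ 2 = b * u by rw [sq]; group] at this
  have hcard : Nat.card G = 2 ^ (n + 1) := by
    rw [← Subgroup.card_mul_index (Subgroup.zpowers a), hidx, Nat.card_zpowers, D.order, pow_succ]
  refine ⟨rfl, hcard, ?_⟩
  obtain ⟨t, ht⟩ : ∃ t : ℤ, r u = 4 * t + 3 := ⟨r u / 4, by have := h3 u hu; omega⟩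
  obtain ⟨m, rfl⟩ : ∃ m, n = m + 3 := ⟨n - 3, by omega⟩
  have hplus : (2 : ℤ) ^ (m + 2) ∣ r u + 1 := by
    have h : (2 : ℤ) ^ (m + 3) ∣ 2 * ((2 * t + 1) * (r u + 1)) := by
      have h' := D.dvd_pow_of_mem (hallsq u)
      push_cast at h'
      convert h' using 1; rw [ht]; ring
    rw [pow_succ', mul_dvd_mul_iff_left (by norm_num : (2 : ℤ) ≠ 0)] at h
    exact IsCoprime.dvd_of_dvd_mul_left (IsCoprime.pow_left ⟨-t, 1, by ring⟩) h
  obtain ⟨c, hc⟩ := hplus
  rcases Int.even_or_odd' c with ⟨c', rfl | rfl⟩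
  · have hinv : u * a * u⁻¹ = a⁻¹ := by
      rw [D.conj, ← zpow_neg_one, D.zpow_eq]
      exact ⟨c', by push_cast; linear_combination hc⟩
    rcases dihedral_or_quaternion D hcard hu hinv (hallsq u) with h | h
    · exact Or.inl h
    · exact Or.inr (Or.inl h)
  · obtain ⟨i, hi⟩ := Subgroup.mem_zpowers_iff.mp (hallsq u)
    have hi2 : (2 : ℤ) ^ (m + 2) ∣ i := by
      have h : u * a ^ i * u⁻¹ = a ^ i := by rw [hi]; group
      rw [D.conj_zpow', D.zpow_eq, show r u * i - i = 2 * ((2 * t + 1) * i) by rw [ht]; ring] at h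
      push_cast at h
      rw [pow_succ', mul_dvd_mul_iff_left (by norm_num : (2 : ℤ) ≠ 0)] at h
      exact IsCoprime.dvd_of_dvd_mul_left (IsCoprime.pow_left ⟨-t, 1, by ring⟩) h
    obtain ⟨e, he⟩ := hi2
    have hru : a ^ r u = a ^ ((2 : ℤ) ^ (m + 2) - 1) := by
      rw [D.zpow_eq]; exact ⟨c', by push_cast; linear_combination hc⟩
    refine Or.inr (Or.inr ⟨m + 3, by omega, hcard, a, ?_⟩)
    have hexp : a ^ (2 ^ (m + 3 - 1) - 1) = a ^ ((2 : ℤ) ^ (m + 2) - 1) := by
      rw [← zpow_natCast, Nat.cast_sub Nat.one_le_two_pow]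
      norm_num
    rcases Int.even_or_odd' e with ⟨e', rfl | rfl⟩
    · refine ⟨u, D.order, orderOf_eq_prime ?_ fun h => hu (h ▸ one_mem _), ?_⟩
      · rw [← hi, D.zpow_one_iff, he]; exact ⟨e', by push_cast; ring⟩
      · rw [hexp, D.conj, hru]
    · refine ⟨a * u, D.order, orderOf_eq_prime ?_ fun h => hu ?_, ?_⟩
      · calc (a * u) ^ 2 = a * (u * a * u⁻¹) * u ^ 2 := by rw [sq, sq]; group
          _ = a ^ (1 + r u + i) := by rw [D.conj, ← hi, zpow_add, zpow_add, zpow_one]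
          _ = 1 := by
              rw [D.zpow_one_iff, he]
              exact ⟨c' + e' + 1, by push_cast; linear_combination hc⟩
      · rw [eq_inv_of_mul_eq_one_right h]; exact inv_mem (Subgroup.mem_zpowers a)
      · rw [hexp, ← hru]
        calc a * u * a * (a * u)⁻¹ = a * (u * a * u⁻¹) * a⁻¹ := by group
          _ = a ^ r u := by
            rw [D.conj, ((Commute.refl a).zpow_right (r u)).eq, mul_inv_cancel_right]

/-- `C(U^p) > U`: index `p`, and either order eight or a unique normal elementary subgroup of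
order `p ^ 2`. -/
theorem cases_of_gt (D : Data p n a r) {M : Subgroup G}
    (hM : ∀ g, g ∈ M ↔ (p : ℤ) ^ (n - 1) ∣ r g - 1) (hgt : ¬ M ≤ Subgroup.zpowers a) :
    MaxClassType p n G ∨
      ((Subgroup.zpowers a).relIndex M = p ∧ Cfsg.IsElementaryAbelian p (Cfsg.omegaOne p M) ∧
        Nat.card (Cfsg.omegaOne p M) = p ^ 2 ∧ (Cfsg.omegaOne p M).Characteristic) := by
  classical
  have hn2 := D.two_le
  obtain ⟨m, rfl⟩ : ∃ m, n = m + 1 := ⟨n - 1, by omega⟩
  rw [Nat.add_sub_cancel] at hM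
  set U := Subgroup.zpowers a with hUdef
  set c := a ^ ((p : ℤ) ^ m) with hc
  have hcen : ∀ g, Commute g c := fun g => by
    have := D.central g
    rwa [Nat.add_sub_cancel] at this
  have hcU : c ∈ U := Subgroup.zpow_mem _ (Subgroup.mem_zpowers a) _
  have hpz : ((p : ℤ) ^ (m + 1)) = (p : ℤ) ^ m * p := pow_succ _ _
  have hco : orderOf c = p := by
    refine orderOf_eq_prime ?_ ?_
    · rw [hc, ← zpow_natCast, ← zpow_mul, D.zpow_one_iff, hpz]
    · intro h
      rw [hc, D.zpow_one_iff, ← Nat.cast_pow, ← Nat.cast_pow, Int.natCast_dvd_natCast,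
        Nat.pow_dvd_pow_iff_le_right hp.out.one_lt] at h
      omega
  -- the commutator map `M → ⟨c⟩`
  have hψ : ∀ g ∈ M, ∀ j : ℤ, ⁅g, a ^ j⁆ = c ^ (((r g - 1) / (p : ℤ) ^ m) * j) := by
    intro g hg j
    obtain ⟨k, hk⟩ := (hM g).mp hg
    rw [hk, Int.mul_ediv_cancel_left _ (pow_ne_zero _ (by exact_mod_cast hp.out.ne_zero) : (p : ℤ) ^ m ≠ 0), commutatorElement_def,
      D.conj_zpow', ← zpow_neg, ← zpow_add, hc, ← zpow_mul]
    congr 1
    linear_combination j * hk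
  have hψ1 : ∀ g ∈ M, ⁅g, a⁆ ∈ Subgroup.zpowers c := fun g hg => by
    refine ⟨(r g - 1) / (p : ℤ) ^ m * 1, ?_⟩
    show c ^ ((r g - 1) / (p : ℤ) ^ m * 1) = ⁅g, a⁆
    rw [← hψ g hg 1, zpow_one]
  let ψ : M →* Subgroup.zpowers c := MonoidHom.mk' (fun g => ⟨⁅(g : G), a⁆, hψ1 g g.2⟩) fun g h =>
    Subtype.ext (by
      show ⁅(g : G) * h, a⁆ = ⁅(g : G), a⁆ * ⁅(h : G), a⁆
      obtain ⟨i, hi⟩ := Subgroup.mem_zpowers_iff.mp (hψ1 h h.2)
      obtain ⟨i', hi'⟩ := Subgroup.mem_zpowers_iff.mp (hψ1 g g.2)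
      have h1 : (g : G) * c ^ i * (g : G)⁻¹ = c ^ i := by
        rw [((hcen g).zpow_right i).eq, mul_inv_cancel_right]
      calc ⁅(g : G) * h, a⁆ = (g : G) * ⁅(h : G), a⁆ * (g : G)⁻¹ * ⁅(g : G), a⁆ := by
            simp only [commutatorElement_def]; group
        _ = c ^ i * c ^ i' := by rw [← hi, h1, ← hi']
        _ = _ := by rw [← hi, ← hi', ← zpow_add, ← zpow_add, add_comm])
  have hUM : U ≤ M := Subgroup.zpowers_le.mpr ((hM a).mpr (by
    have h1 : a ^ r a = a ^ (1 : ℤ) := by rw [← D.conj, zpow_one, mul_inv_cancel_right]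
    have := (D.zpow_eq _ _).mp h1
    exact (pow_dvd_pow _ (Nat.le_succ m)).trans this))
  have hker : ψ.ker = U.subgroupOf M := by
    ext g
    rw [MonoidHom.mem_ker, Subgroup.mem_subgroupOf, ← OneMemClass.coe_eq_one]
    show ⁅(g : G), a⁆ = 1 ↔ _
    rw [commutatorElement_eq_one_iff_mul_comm]
    refine ⟨fun h => D.self _ h, fun h => ?_⟩
    obtain ⟨j, hj⟩ := Subgroup.mem_zpowers_iff.mp h
    rw [← hj]
    exact ((Commute.refl a).zpow_left j).eq
  obtain ⟨x, hxM, hxU⟩ := SetLike.not_le_iff_exists.mp hgt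
  have hidx : U.relIndex M = p := by
    rw [Subgroup.relIndex, ← hker, Subgroup.index_ker]
    rcases hp.out.eq_one_or_self_of_dvd _ (Subgroup.card_subgroup_dvd_card ψ.range |>.trans
      (by rw [Nat.card_zpowers, hco])) with h | h
    · exfalso
      have hx : (⟨x, hxM⟩ : M) ∈ ψ.ker := by
        have : ψ.range = ⊥ := Subgroup.card_eq_one.mp h
        exact MonoidHom.mem_ker.mpr (Subgroup.mem_bot.mp (this ▸ ⟨_, rfl⟩))
      rw [hker] at hx
      exact hxU hx
    · exact h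
  have hψne : ψ ⟨x, hxM⟩ ≠ 1 := fun h => hxU (by
    have : (⟨x, hxM⟩ : M) ∈ ψ.ker := h
    rwa [hker] at this)
  set k := (r x - 1) / (p : ℤ) ^ m with hkdef
  have hrx : r x - 1 = (p : ℤ) ^ m * k := by
    obtain ⟨k', hk'⟩ := (hM x).mp hxM
    rw [hkdef, hk', Int.mul_ediv_cancel_left _ (pow_ne_zero _ (by exact_mod_cast hp.out.ne_zero) : (p : ℤ) ^ m ≠ 0)]
  have hk : ¬ (p : ℤ) ∣ k := fun h => hxU (D.mem_of_dvd (by
    rw [hrx, hpz]; exact mul_dvd_mul_left _ h))
  have hpi : IsCoprime (p : ℤ) k :=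
    (Nat.prime_iff_prime_int.mp hp.out).coprime_iff_not_dvd.mpr hk
  -- `x ^ p` lies in `⟨a ^ p⟩`
  have hxp : x ^ p ∈ U := by
    have : (⟨x, hxM⟩ : M) ^ p ∈ ψ.ker := by
      rw [MonoidHom.mem_ker, map_pow]
      exact Subtype.ext (by
        rw [SubgroupClass.coe_pow]
        obtain ⟨i, hi⟩ := Subgroup.mem_zpowers_iff.mp (ψ ⟨x, hxM⟩).2
        rw [← hi, ← zpow_natCast, ← zpow_mul, mul_comm, zpow_mul, zpow_natCast, ← hco,
          pow_orderOf_eq_one, one_zpow]; rfl)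
    rw [hker] at this
    exact this
  obtain ⟨i, hi⟩ := Subgroup.mem_zpowers_iff.mp hxp
  obtain ⟨j, hj⟩ : (p : ℤ) ∣ i := by
    have h : x * a ^ i * x⁻¹ = a ^ i := by rw [hi]; group
    rw [D.conj_zpow', D.zpow_eq, show r x * i - i = (r x - 1) * i by ring, hrx, hpz, mul_assoc,
      mul_dvd_mul_iff_left (pow_ne_zero _ (by exact_mod_cast hp.out.ne_zero) : (p : ℤ) ^ m ≠ 0)] at h
    exact hpi.dvd_of_dvd_mul_left h
  rcases (show (p = 2 ∧ m = 1) ∨ (p = 2 → 2 ≤ m) by
    rcases Decidable.eq_or_ne p 2 with h | h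
    · rcases (show m = 1 ∨ 2 ≤ m by omega) with h' | h'
      · exact Or.inl ⟨h, h'⟩
      · exact Or.inr fun _ => h'
    · exact Or.inr fun h' => absurd h' h) with ⟨rfl, rfl⟩ | hbig
  · -- order eight
    left
    have htop : M = ⊤ := eq_top_iff.mpr fun g _ => (hM g).mpr (by
      rw [pow_one]; exact D.dvd_prime' g)
    subst htop
    rw [Subgroup.relIndex_top_right] at hidx
    have hcard : Nat.card G = 2 ^ (1 + 1 + 1) := by
      rw [← Subgroup.card_mul_index U, hidx, Nat.card_zpowers, D.order]; norm_num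
    have hinv : x * a * x⁻¹ = a⁻¹ := by
      rw [D.conj, ← zpow_neg_one, D.zpow_eq]
      obtain ⟨t, ht⟩ : (2 : ℤ) ∣ k - 1 := by
        have : ¬ (2 : ℤ) ∣ k := by simpa using hk
        omega
      refine ⟨t + 1, ?_⟩
      push_cast at hrx ⊢
      linear_combination hrx + 2 * ht
    refine ⟨rfl, hcard, ?_⟩
    rcases dihedral_or_quaternion D hcard hxU hinv hxp with h | h
    · exact Or.inl h
    · exact Or.inr (Or.inl h)
  right
  -- powers in `M`
  have hpow : ∀ g ∈ M, ∀ s : ℤ,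
      (g * a ^ s) ^ p = (c ^ (-((r g - 1) / (p : ℤ) ^ m * s))) ^ p.choose 2 * g ^ p * a ^ (s * p) := by
    intro g hg s
    rw [mul_pow_of_comm (x := g) (y := a ^ s) (c := c ^ (-((r g - 1) / (p : ℤ) ^ m * s))) ?_
      ((hcen g).symm.zpow_left _) ((hcen _).symm.zpow_left _), zpow_mul a s, zpow_natCast]
    rw [zpow_neg, ← hψ g hg s, commutatorElement_def]
    group
  have hdvd2 : p ≠ 2 → (p : ℤ) ∣ (p.choose 2 : ℕ) := fun h => Int.natCast_dvd_natCast.mpr
    (hp.out.dvd_choose_self two_ne_zero (lt_of_le_of_ne hp.out.two_le (Ne.symm h)))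
  have hunit : p = 2 → ∀ l : ℤ, IsCoprime ((2 : ℤ) ^ m) (1 - (2 : ℤ) ^ (m - 1) * l) := by
    intro h l
    obtain ⟨m', hm'⟩ : ∃ m', m = m' + 2 := ⟨m - 2, by have := hbig h; omega⟩
    refine IsCoprime.pow_left ⟨(2 : ℤ) ^ m' * l, 1, ?_⟩
    rw [hm', show m' + 2 - 1 = m' + 1 by omega]; ring
  -- the element of order `p` outside `U`
  obtain ⟨s, hs⟩ : ∃ s : ℤ, (x * a ^ s) ^ p = 1 := by
    by_cases h2 : p = 2
    · subst h2
      obtain ⟨u, v, huv⟩ := hunit rfl k
      refine ⟨-j * v, ?_⟩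
      rw [hpow x hxM, ← hi, hc, ← zpow_mul, ← hkdef, Nat.choose_self, pow_one, ← zpow_add,
        ← zpow_add, D.zpow_one_iff, hj]
      obtain ⟨m', hm'⟩ : ∃ m', m = m' + 1 := ⟨m - 1, by omega⟩
      rw [hm'] at huv ⊢
      rw [show m' + 1 - 1 = m' from rfl] at huv
      refine ⟨j * u, ?_⟩
      push_cast
      linear_combination (-2 * j) * huv
    · refine ⟨-j, ?_⟩
      rw [hpow x hxM, ← hi, hc, ← zpow_mul, ← zpow_natCast, ← zpow_mul, ← zpow_add, ← zpow_add,
        D.zpow_one_iff, hj]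
      obtain ⟨e, he⟩ := hdvd2 h2
      refine ⟨k * j * e, ?_⟩
      rw [← hkdef, he, hpz]
      ring
  set y := x * a ^ s with hy
  have hyM : y ∈ M := mul_mem hxM (hUM (Subgroup.zpow_mem _ (Subgroup.mem_zpowers a) s))
  have hyU : y ∉ U := fun h => hxU (by
    have := mul_mem h (inv_mem (Subgroup.zpow_mem _ (Subgroup.mem_zpowers a) s : a ^ s ∈ U))
    rwa [hy, mul_inv_cancel_right] at this)
  set E : Subgroup G := Subgroup.zpowers c ⊔ Subgroup.zpowers y with hE
  have hccom : ∀ e ∈ Subgroup.zpowers c, ∀ g : G, Commute e g := by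
    rintro e ⟨l, rfl⟩ g
    exact ((hcen g).zpow_right l).symm
  have hEc : IsMulCommutative E := by
    have hle : E ≤ Subgroup.centralizer (E : Set G) := by
      rw [hE]
      refine sup_le ?_ (Subgroup.zpowers_le.mpr ?_)
      · intro e he
        exact Subgroup.mem_centralizer_iff.mpr fun g _ => ((hccom e he g).eq).symm
      · have : E ≤ Subgroup.centralizer ({y} : Set G) := sup_le
          (fun e he => Subgroup.mem_centralizer_singleton_iff.mpr (hccom e he y).eq)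
          (Subgroup.zpowers_le.mpr (Subgroup.mem_centralizer_singleton_iff.mpr rfl))
        exact Subgroup.mem_centralizer_iff.mpr fun g hg =>
          Subgroup.mem_centralizer_singleton_iff.mp (this hg)
    exact ⟨⟨fun u v => Subtype.ext ((Subgroup.mem_centralizer_iff.mp (hle v.2)) u u.2)⟩⟩
  have hyo : orderOf y = p := orderOf_eq_prime hs fun h => hyU (h ▸ one_mem _)
  have hEp : ∀ e ∈ E, e ^ p = 1 := by
    have hle : E ≤ E := le_rfl
    let K : Subgroup G :=
      { carrier := {e | e ∈ E ∧ e ^ p = 1}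
        one_mem' := ⟨one_mem E, one_pow p⟩
        mul_mem' := fun {u v} hu hv => ⟨mul_mem hu.1 hv.1, by
          rw [(show Commute u v from congrArg Subtype.val (hEc.is_comm.comm ⟨u, hu.1⟩ ⟨v, hv.1⟩)).mul_pow,
            hu.2, hv.2, one_mul]⟩
        inv_mem' := fun {u} hu => ⟨inv_mem hu.1, by rw [inv_pow, hu.2, inv_one]⟩ }
    have : E ≤ K := sup_le
      (Subgroup.zpowers_le.mpr ⟨Subgroup.mem_sup_left (Subgroup.mem_zpowers c),
        hco ▸ pow_orderOf_eq_one c⟩)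
      (Subgroup.zpowers_le.mpr ⟨Subgroup.mem_sup_right (Subgroup.mem_zpowers y), hs⟩)
    exact fun e he => (this he).2
  have hyc : ∀ e ∈ Subgroup.zpowers y, e ∈ U → e = 1 := by
    intro e he heU
    by_contra hne
    have hz : Subgroup.zpowers e = Subgroup.zpowers y := by
      refine Subgroup.eq_of_le_of_card_ge (Subgroup.zpowers_le.mpr he) ?_
      rw [Nat.card_zpowers, Nat.card_zpowers, hyo]
      have := orderOf_dvd_of_mem_zpowers he
      rw [hyo] at this
      rcases hp.out.eq_one_or_self_of_dvd _ this with h | h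
      · exact absurd (orderOf_eq_one_iff.mp h) hne
      · exact h.ge
    exact hyU (Subgroup.zpowers_le.mpr heU (hz.symm ▸ Subgroup.mem_zpowers y))
  have hEcard : Nat.card E = p ^ 2 := by
    have hcom : ∀ (e : Subgroup.zpowers c) (g : Subgroup.zpowers y),
        Commute ((Subgroup.zpowers c).subtype e) ((Subgroup.zpowers y).subtype g) :=
      fun e g => hccom e e.2 g
    let f : Subgroup.zpowers c × Subgroup.zpowers y →* G :=
      (Subgroup.zpowers c).subtype.noncommCoprod (Subgroup.zpowers y).subtype hcom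
    have hinj : Function.Injective f := by
      rw [injective_iff_map_eq_one]
      rintro ⟨e, g⟩ heg
      have heg' : (e : G) * g = 1 := heg
      have hg1 : (g : G) = 1 := hyc g g.2 (by
        rw [eq_inv_of_mul_eq_one_right heg']
        exact inv_mem (Subgroup.zpowers_le.mpr hcU e.2))
      rw [hg1, mul_one] at heg'
      exact Prod.ext (Subtype.ext heg') (Subtype.ext hg1)
    have hr' : f.range = E := by
      simp only [f, hE]
      rw [MonoidHom.noncommCoprod_range, Subgroup.range_subtype, Subgroup.range_subtype]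
    rw [← hr', ← Nat.card_congr (MonoidHom.ofInjective hinj).toEquiv, Nat.card_prod,
      Nat.card_zpowers, Nat.card_zpowers, hco, hyo, sq]
  -- elements of order dividing `p` in `M`
  have hgen : ∀ g ∈ M, g ^ p = 1 → g ∈ E := by
    intro g hg hgp
    have hψy : ψ ⟨y, hyM⟩ ≠ 1 := fun h => hyU (by
      have : (⟨y, hyM⟩ : M) ∈ ψ.ker := h
      rwa [hker] at this)
    obtain ⟨l, hl⟩ := Subgroup.mem_zpowers_iff.mp (mem_zpowers_of_prime_card
      (by rw [Nat.card_zpowers, hco]) hψy (g' := ψ ⟨g, hg⟩))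
    have hker' : (⟨y, hyM⟩ : M) ^ (-l) * ⟨g, hg⟩ ∈ ψ.ker := by
      rw [MonoidHom.mem_ker, map_mul, map_zpow, ← hl, ← zpow_add, neg_add_cancel, zpow_zero]
    rw [hker, Subgroup.mem_subgroupOf] at hker'
    obtain ⟨i', hi'⟩ := Subgroup.mem_zpowers_iff.mp hker'
    have hgeq : g = y ^ l * a ^ i' := by
      rw [hi']
      simp [← mul_assoc]
    have hylM : y ^ l ∈ M := zpow_mem hyM l
    have hylp : (y ^ l) ^ p = 1 := by
      rw [← zpow_natCast, ← zpow_mul, mul_comm, zpow_mul, zpow_natCast, hs, one_zpow]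
    have h1 := hpow (y ^ l) hylM i'
    set k' := (r (y ^ l) - 1) / (p : ℤ) ^ m
    rw [← hgeq, hgp, hylp, mul_one, hc, ← zpow_mul, ← zpow_natCast, ← zpow_mul, ← zpow_add,
      eq_comm, D.zpow_one_iff] at h1
    have hmem : a ^ i' ∈ Subgroup.zpowers c := by
      obtain ⟨w, hw⟩ : (p : ℤ) ^ m ∣ i' := by
        have hp0 : (p : ℤ) ≠ 0 := by exact_mod_cast hp.out.ne_zero
        by_cases h2 : p = 2
        · subst h2
          obtain ⟨m', hm'⟩ : ∃ m', m = m' + 1 := ⟨m - 1, by omega⟩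
          have hco' := hunit rfl k'
          rw [hm', show m' + 1 - 1 = m' from rfl] at hco'
          rw [hm', Nat.choose_self, show (2 : ℕ) = 2 from rfl] at h1
          push_cast at h1 ⊢
          rw [hm']
          refine hco'.dvd_of_dvd_mul_left ?_
          obtain ⟨t, ht⟩ := h1
          exact ⟨t, mul_left_cancel₀ (two_ne_zero (α := ℤ)) (by linear_combination ht)⟩
        · obtain ⟨e, he⟩ := hdvd2 h2
          obtain ⟨t, ht⟩ := h1
          refine ⟨t + k' * i' * e, mul_left_cancel₀ hp0 ?_⟩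
          rw [he, hpz] at ht
          linear_combination ht
      exact ⟨w, by show c ^ w = a ^ i'; rw [hc, ← zpow_mul, hw]⟩
    rw [hgeq]
    exact mul_mem (Subgroup.mem_sup_right (Subgroup.zpow_mem _ (Subgroup.mem_zpowers y) l))
      (Subgroup.mem_sup_left hmem)
  have hEM : E ≤ M := sup_le ((Subgroup.zpowers_le.mpr hcU).trans hUM) (Subgroup.zpowers_le.mpr hyM)
  have hΩ : Cfsg.omegaOne p M = E := by
    refine le_antisymm ((Subgroup.closure_le _).mpr fun g hg => hgen g hg.1 hg.2) fun g hg => ?_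
    exact Subgroup.subset_closure ⟨hEM hg, hEp g hg⟩
  have hEn : E.Normal := by
    refine ⟨fun e he g => hgen _ ?_ (by rw [conj_pow, hEp e he, mul_one, mul_inv_cancel])⟩
    have hconj : g * e * g⁻¹ = g * e * g⁻¹ := rfl
    rw [hM]
    obtain ⟨t, ht⟩ := (hM e).mp (hEM he)
    refine (dvd_trans ?_ ((D.zpow_eq (r (g * e * g⁻¹)) (r e)).mp ?_)).trans (dvd_of_eq rfl) |> fun h =>
      by simpa using dvd_add h ⟨t, ht⟩
    · exact pow_dvd_pow _ (Nat.le_succ m)
    · -- conjugation is abelian on `⟨a⟩`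
      obtain ⟨v, hv⟩ := Subgroup.mem_zpowers_iff.mp
        (show g⁻¹ * a * g ∈ U from ⟨r g⁻¹, by
          show a ^ r g⁻¹ = g⁻¹ * a * g
          rw [← D.conj, inv_inv]⟩)
      rw [← D.conj, show g * e * g⁻¹ * a * (g * e * g⁻¹)⁻¹ = g * (e * (g⁻¹ * a * g) * e⁻¹) * g⁻¹ by group,
        ← hv, D.conj_zpow', mul_comm, zpow_mul, hv, ← conj_zpow]
      group
  refine ⟨hidx, ?_, ?_, ?_⟩
  · rw [hΩ]; exact ⟨hEc, hEp⟩
  · rw [hΩ, hEcard]
  · rw [hΩ, Subgroup.characteristic_iff_map_eq]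
    intro φ
    have hWn : (E.map φ.toMonoidHom).Normal := Subgroup.Normal.map hEn _ φ.surjective
    refine Subgroup.eq_of_le_of_card_ge (fun w hw => ?_)
      (Subgroup.card_map_of_injective (f := φ.toMonoidHom) φ.injective).ge
    have hWp : ∀ w ∈ E.map φ.toMonoidHom, w ^ p = 1 := by
      rintro _ ⟨e, he, rfl⟩
      show (φ e) ^ p = 1
      rw [← map_pow, hEp e he, map_one]
    refine hgen w ((hM w).mpr ?_) (hWp w hw)
    have h1 : ⁅w, a⁆ = a ^ (r w - 1) := by
      rw [commutatorElement_def, D.conj, zpow_sub, zpow_one]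
    have h2 : ⁅w, a⁆ ∈ E.map φ.toMonoidHom := by
      rw [commutatorElement_def, mul_assoc w, mul_assoc w]
      exact mul_mem hw (hWn.conj_mem _ (inv_mem hw) a)
    have h3 := hWp _ h2
    rw [h1, ← zpow_natCast, ← zpow_mul, D.zpow_one_iff, hpz] at h3
    exact Int.dvd_of_mul_dvd_mul_right (by exact_mod_cast hp.out.ne_zero) h3

end CfsgLib.SelfCentralCyclic
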