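import Cfsg.Agent.Classification.CyclicNormalAbelian
import Cfsg.Agent.TwoGroups.Models
import Cfsg.Prelude.Def_CaseTheorems
import Cfsg.Prelude.Def_PLocal

/-!
# `p`-groups with a self-centralizing cyclic normal subgroup

Notation: `U = ⟨a⟩` of order `p ^ n`, `C(U) = U`.
-/

set_option autoImplicit false
set_option linter.unusedSectionVars false

namespace CfsgLib.SelfCentralCyclic

open CfsgLib.Classification.CyclicNormal (conj_pow_zpow mul_pow_of_comm dvd_sub_one_of_odd dvd_sub_one_of_two)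
open scoped commutatorElement

/-- The data. -/
structure Data (p n : ℕ) {G : Type*} [Group G] (a : G) (r : G → ℤ) : Prop where
  pgroup : IsPGroup p G
  order : orderOf a = p ^ n
  conj : ∀ g, g * a * g⁻¹ = a ^ r g
  self : ∀ x, Commute x a → x ∈ Subgroup.zpowers a
  nonab : ∃ g, g ∉ Subgroup.zpowers a

variable {G : Type*} [Group G] [Finite G] {p n : ℕ} [hp : Fact p.Prime] {a : G} {r : G → ℤ}

namespace Data

variable (D : Data p n a r)
include D

theorem zpow_eq (i j : ℤ) : a ^ i = a ^ j ↔ (p : ℤ) ^ n ∣ i - j := by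
  rw [← orderOf_dvd_sub_iff_zpow_eq_zpow, D.order]; push_cast; rfl

theorem zpow_one_iff (i : ℤ) : a ^ i = 1 ↔ (p : ℤ) ^ n ∣ i := by
  simpa using D.zpow_eq i 0

theorem conj_zpow' (g : G) (j : ℤ) : g * a ^ j * g⁻¹ = a ^ (r g * j) := by
  rw [← conj_zpow, D.conj g, ← zpow_mul]

theorem mem_of_dvd {g : G} (h : (p : ℤ) ^ n ∣ r g - 1) : g ∈ Subgroup.zpowers a := by
  apply D.self
  have h1 : g * a * g⁻¹ = a := by rw [D.conj g, (D.zpow_eq _ 1).mpr h, zpow_one]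
  exact mul_inv_eq_iff_eq_mul.mp h1

theorem dvd_prime (g : G) : (p : ℤ) ∣ r g - 1 ∨ n = 0 := by
  rcases Nat.eq_zero_or_pos n with h | h
  · exact Or.inr h
  left
  obtain ⟨k, hk⟩ := (IsPGroup.iff_orderOf (p := p)).mp D.pgroup g
  have h1 := conj_pow_zpow (D.conj g) (p ^ k)
  rw [← hk, pow_orderOf_eq_one, inv_one, one_mul, mul_one, hk] at h1
  have h2 : (p : ℤ) ^ n ∣ r g ^ (p ^ k) - 1 := by rw [← D.zpow_eq, zpow_one]; exact h1.symm
  have h3 : (p : ℤ) ∣ r g ^ (p ^ k) - 1 := (dvd_pow_self _ (by omega)).trans h2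
  rw [← ZMod.intCast_zmod_eq_zero_iff_dvd] at h3 ⊢
  push_cast at h3 ⊢
  rwa [ZMod.pow_card_pow] at h3

theorem two_le : 2 ≤ n := by
  by_contra hcon
  obtain ⟨g, hg⟩ := D.nonab
  apply hg
  apply D.mem_of_dvd
  rcases (show n = 0 ∨ n = 1 by omega) with rfl | rfl
  · simp
  · rw [pow_one]
    exact (D.dvd_prime g).resolve_right one_ne_zero

theorem dvd_prime' (g : G) : (p : ℤ) ∣ r g - 1 :=
  (D.dvd_prime g).resolve_right (by have := D.two_le; omega)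

/-- The element of order `p` of `⟨a⟩`. -/
theorem central (g : G) : Commute g (a ^ ((p : ℤ) ^ (n - 1))) := by
  have h : g * a ^ ((p : ℤ) ^ (n - 1)) * g⁻¹ = a ^ ((p : ℤ) ^ (n - 1)) := by
    rw [D.conj_zpow', D.zpow_eq]
    obtain ⟨t, ht⟩ := D.dvd_prime' g
    refine ⟨t, ?_⟩
    obtain ⟨m, hm⟩ : ∃ m, n = m + 1 := ⟨n - 1, by have := D.two_le; omega⟩
    rw [hm, Nat.add_sub_cancel, pow_succ]
    linear_combination ((p : ℤ) ^ m) * ht
  exact mul_inv_eq_iff_eq_mul.mp h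

theorem dvd_pow_of_mem {g : G} (hg : g ^ p ∈ Subgroup.zpowers a) : (p : ℤ) ^ n ∣ r g ^ p - 1 := by
  have h1 := conj_pow_zpow (D.conj g) p
  obtain ⟨i, hi⟩ := Subgroup.mem_zpowers_iff.mp hg
  rw [← hi, ((Commute.refl a).zpow_left i).eq, mul_inv_cancel_right] at h1
  rw [← D.zpow_eq, zpow_one]; exact h1.symm

theorem exists_minimal {g : G} (hg : g ∉ Subgroup.zpowers a) :
    ∃ j : ℕ, g ^ p ^ j ∉ Subgroup.zpowers a ∧ (g ^ p ^ j) ^ p ∈ Subgroup.zpowers a := by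
  classical
  obtain ⟨k, hk⟩ := (IsPGroup.iff_orderOf (p := p)).mp D.pgroup g
  have hex : ∃ j : ℕ, g ^ p ^ j ∈ Subgroup.zpowers a :=
    ⟨k, by rw [← hk, pow_orderOf_eq_one]; exact one_mem _⟩
  have h0 : Nat.find hex ≠ 0 := fun h => hg (by simpa [h] using Nat.find_spec hex)
  refine ⟨Nat.find hex - 1, Nat.find_min hex (by omega), ?_⟩
  rw [← pow_mul, ← pow_succ, Nat.sub_add_cancel (by omega)]
  exact Nat.find_spec hex

/-- The centralizer of the powers. -/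
theorem mem_cent_iff (g : G) :
    g ∈ Subgroup.centralizer (Cfsg.powerClosure p 1 (Subgroup.zpowers a) : Set G) ↔
      (p : ℤ) ^ (n - 1) ∣ r g - 1 := by
  have hpc : Cfsg.powerClosure p 1 (Subgroup.zpowers a) = Subgroup.zpowers (a ^ (p : ℤ)) := by
    refine le_antisymm ((Subgroup.closure_le _).mpr ?_) (Subgroup.zpowers_le.mpr ?_)
    · rintro _ ⟨x, ⟨j, rfl⟩, rfl⟩
      refine ⟨j, ?_⟩
      show (a ^ (p : ℤ)) ^ j = (a ^ j) ^ p ^ 1
      rw [pow_one, ← zpow_natCast (a ^ j), ← zpow_mul, ← zpow_mul, mul_comm]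
    · exact Subgroup.subset_closure ⟨a, Subgroup.mem_zpowers a, by rw [pow_one, zpow_natCast]⟩
  rw [hpc]
  have h2 := D.two_le
  have hp0 : (p : ℤ) ≠ 0 := by exact_mod_cast hp.out.ne_zero
  have key : (p : ℤ) ^ (n - 1) ∣ r g - 1 ↔ g * a ^ (p : ℤ) * g⁻¹ = a ^ (p : ℤ) := by
    rw [D.conj_zpow', D.zpow_eq, show r g * (p : ℤ) - p = p * (r g - 1) by ring]
    obtain ⟨m, hm⟩ : ∃ m, n = m + 1 := ⟨n - 1, by omega⟩
    rw [hm, Nat.add_sub_cancel, pow_succ', mul_dvd_mul_iff_left hp0]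
  rw [key, Subgroup.mem_centralizer_iff, mul_inv_eq_iff_eq_mul]
  refine ⟨fun h => (h _ (Subgroup.mem_zpowers _)).symm, fun h y hy => ?_⟩
  obtain ⟨j, rfl⟩ := Subgroup.mem_zpowers_iff.mp hy
  exact (Commute.zpow_left (show Commute (a ^ (p : ℤ)) g from h.symm) j).eq

end Data

/-- Order `2 ^ (n+1)` with an inverting element: dihedral or quaternion. -/
theorem dihedral_or_quaternion [Fact (Nat.Prime 2)] (D : Data 2 n a r)
    (hcard : Nat.card G = 2 ^ (n + 1)) {u : G} (hu : u ∉ Subgroup.zpowers a)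
    (hinv : u * a * u⁻¹ = a⁻¹) (hu2 : u ^ 2 ∈ Subgroup.zpowers a) :
    (∃ m : ℕ, Nonempty (G ≃* DihedralGroup m)) ∨ (∃ m : ℕ, Nonempty (G ≃* QuaternionGroup m)) := by
  obtain ⟨m, rfl⟩ : ∃ m, n = m + 1 := ⟨n - 1, by have := D.two_le; omega⟩
  obtain ⟨i, hi⟩ := Subgroup.mem_zpowers_iff.mp hu2
  have hi' : (2 : ℤ) ^ (m + 1) ∣ 2 * i := by
    have h : u * a ^ i * u⁻¹ = a ^ i := by rw [hi]; group
    rw [← conj_zpow, hinv, inv_zpow, ← zpow_neg, D.zpow_eq] at h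
    obtain ⟨t, ht⟩ := h
    exact ⟨-t, by push_cast at ht ⊢; linarith⟩
  rw [pow_succ', mul_dvd_mul_iff_left (by norm_num : (2 : ℤ) ≠ 0)] at hi'
  obtain ⟨t, ht⟩ := hi'
  have hH : Nat.card (⊤ : Subgroup G) = 2 * 2 ^ (m + 1) := by
    rw [Subgroup.card_top, hcard, pow_succ' 2 (m + 1)]
  rcases Int.even_or_odd' t with ⟨t', rfl | rfl⟩
  · left
    have hub : u * u = 1 := by
      rw [← sq, ← hi, D.zpow_one_iff, ht]; exact ⟨t', by push_cast; ring⟩
    obtain ⟨e⟩ := TwoGroups.nonempty_equiv_dihedral (H := (⊤ : Subgroup G)) (m := 2 ^ (m + 1))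
      (Subgroup.mem_top a) (Subgroup.mem_top u) D.order hub hinv hu hH
    exact ⟨_, ⟨Subgroup.topEquiv.symm.trans e⟩⟩
  · right
    have hub : u * u = a ^ 2 ^ m := by
      rw [← sq, ← hi, ← zpow_natCast a (2 ^ m), D.zpow_eq, ht]
      exact ⟨t', by push_cast; ring⟩
    obtain ⟨e⟩ := TwoGroups.nonempty_equiv_quaternion (H := (⊤ : Subgroup G)) (m := 2 ^ m)
      (Subgroup.mem_top a) (Subgroup.mem_top u) (by rw [D.order, pow_succ']) hub hinv hu
      (by rw [hH, pow_succ']; ring)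
    exact ⟨_, ⟨Subgroup.topEquiv.symm.trans e⟩⟩

end CfsgLib.SelfCentralCyclic
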